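import Mathlib
import Groth.Agent.DetDeg.Atlas

/-!
Determinant of a tensor product of two locally free modules.
-/

set_option autoImplicit false
set_option backward.isDefEq.respectTransparency false
set_option linter.style.haveILetI false

universe u

open CategoryTheory CategoryTheory.Limits AlgebraicGeometry TopologicalSpace Opposite
open Groth.Agent.QC (res resO res_res res_self res_smul app_res section_eq_of_locally)
open Groth.Agent.WeakAssLib (mgerm mgerm_smul mgerm_res)
open TMul (IsFrame IsGen tm)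
open scoped Kronecker
open Groth.Agent.DetDeg (Chart Compat HasDet exists_change germ_det)

noncomputable section

namespace Groth.Agent.DetTensor

variable {X : Scheme.{u}} {a b n : ℕ} {E F DE DF : X.Modules}

/-- Bases of all sections over smaller opens give a frame. -/
theorem isFrame_of_comb {N : X.Modules} {U : X.Opens} {g : Fin n → Γ(N, U)}
    (h : ∀ (V : X.Opens) (hV : V ≤ U),
      Function.Bijective fun c : Fin n → Γ(X, V) => ∑ i, c i • res N hV (g i)) : IsFrame g := by
  classical
  intro x hx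
  refine ⟨fun σ τ e => ?_, fun v => ?_⟩
  · choose W hxW c hc using fun i => X.presheaf.exists_germ_eq (x := x) (σ i - τ i)
    let W' : X.Opens := Finset.univ.inf W ⊓ U
    have hxW' : x ∈ W' := ⟨by
      have : x ∈ ((Finset.univ.inf W : X.Opens) : Set X) := by
        rw [Opens.coe_finset_inf, Finset.inf_set_eq_iInter, Set.mem_iInter₂]
        exact fun i _ => hxW i
      exact this, hx⟩
    have hWi : ∀ i, W' ≤ W i := fun i => inf_le_left.trans (Finset.inf_le (Finset.mem_univ i))
    let c' : Fin n → Γ(X, W') := fun i => resO X (hWi i) (c i)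
    have hgc : ∀ i, (X.presheaf.germ W' x hxW').hom (c' i) = σ i - τ i := fun i =>
      (TopCat.Presheaf.germ_res_apply X.presheaf _ x hxW' (c i)).trans (hc i)
    have h0 : mgerm N hxW' (∑ i, c' i • res N (inf_le_right : W' ≤ U) (g i)) = 0 := by
      rw [TMul.germ_comb]
      simp only [hgc, sub_smul, Finset.sum_sub_distrib]
      exact sub_eq_zero.2 e
    obtain ⟨W'', hxW'', i₁, i₂, heq⟩ :=
      TopCat.Presheaf.germ_eq _ x hxW' hxW' _ 0 (h0.trans (map_zero _).symm)
    have heq' : res N i₁.le (∑ i, c' i • res N (inf_le_right : W' ≤ U) (g i)) = 0 := heq.trans (map_zero _)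
    have hz : (fun i => resO X i₁.le (c' i)) = 0 := by
      refine (h W'' (i₁.le.trans inf_le_right)).1 ?_
      change ∑ i, resO X i₁.le (c' i) • res N _ (g i) = ∑ i, (0 : Γ(X, W'')) • res N _ (g i)
      simp only [zero_smul, Finset.sum_const_zero]
      rw [← heq', map_sum]
      refine Finset.sum_congr rfl fun i _ => ?_
      rw [res_smul]
      exact congrArg _ (res_res N _ _ _).symm
    funext i
    refine sub_eq_zero.1 ?_
    rw [← hgc i, ← TopCat.Presheaf.germ_res_apply X.presheaf i₁ x hxW'' (c' i)]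
    exact (congrArg (X.presheaf.germ W'' x hxW'') (congrFun hz i)).trans (map_zero _)
  · obtain ⟨W, hxW, s, rfl⟩ := N.presheaf.exists_germ_eq (x := x) v
    obtain ⟨c, hc⟩ := (h (W ⊓ U) inf_le_right).2 (res N inf_le_left s)
    refine ⟨fun i => (X.presheaf.germ (W ⊓ U) x ⟨hxW, hx⟩).hom (c i), ?_⟩
    refine (TMul.germ_comb inf_le_right ⟨hxW, hx⟩ c).symm.trans ?_
    exact (congrArg (mgerm N _) hc).trans (mgerm_res _ _ _ _)

/-- The tensor family of two families. -/
def prodFam {U : X.Opens} (e : Fin a → Γ(E, U)) (f : Fin b → Γ(F, U)) :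
    Fin (a * b) → Γ(CohB1.tensorMod E F, U) :=
  fun t => tm (e (finProdFinEquiv.symm t).1) (f (finProdFinEquiv.symm t).2)

lemma tm_sum_sum {V : X.Opens} {ι κ : Type} (S : Finset ι) (T : Finset κ) (c : ι → Γ(X, V)) (d : κ → Γ(X, V))
    (s : ι → Γ(E, V)) (r : κ → Γ(F, V)) :
    tm (∑ i ∈ S, c i • s i) (∑ j ∈ T, d j • r j) = ∑ i ∈ S, ∑ j ∈ T, (c i * d j) • tm (s i) (r j) := by
  classical
  induction S using Finset.induction_on with
  | empty => simp [TMul.zero_tm]
  | insert i S hi ih =>
    rw [Finset.sum_insert hi, Finset.sum_insert hi, TMul.tm_add, ih]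
    congr 1
    clear ih
    induction T using Finset.induction_on with
    | empty =>
      simp only [Finset.sum_empty]
      rw [show (0 : Γ(F, V)) = (0 : Γ(X, V)) • (0 : Γ(F, V)) from (zero_smul _ _).symm, TMul.tm_smul, zero_smul]
    | insert j T hj ih => rw [Finset.sum_insert hj, Finset.sum_insert hj, TMul.add_tm, ih, TMul.tm_smul, TMul.smul_tm, smul_smul, mul_comm]

lemma tm_sum {V : X.Opens} {κ : Type} (T : Finset κ) (d : κ → Γ(X, V)) (s : Γ(E, V)) (r : κ → Γ(F, V)) :
    tm s (∑ j ∈ T, d j • r j) = ∑ j ∈ T, d j • tm s (r j) := by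
  have := tm_sum_sum ({()} : Finset Unit) T (fun _ => (1 : Γ(X, V))) d (fun _ => s) r
  simpa using this

/-- The tensor product of two frames. -/
theorem isFrame_prodFam {U : X.Opens} {e : Fin a → Γ(E, U)} {f : Fin b → Γ(F, U)} (he : IsFrame e) (hf : IsFrame f) :
    IsFrame (prodFam e f) := by
  refine isFrame_of_comb fun V hV => ?_
  have h1 := he.tm_bijective (M := F) V hV
  have h2 : Function.Bijective fun (c : Fin (a * b) → Γ(X, V)) (i : Fin a) =>
      ∑ j, c (finProdFinEquiv (i, j)) • res F hV (f j) := by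
    let ψ : (Fin (a * b) → Γ(X, V)) ≃ (Fin a → Fin b → Γ(X, V)) :=
      (Equiv.arrowCongr finProdFinEquiv.symm (Equiv.refl _)).trans (Equiv.curry _ _ _)
    exact (Function.Bijective.piMap fun i =>
      (⟨hf.comb_injective hV, hf.comb_surjective hV⟩ :
        Function.Bijective fun c : Fin b → Γ(X, V) => ∑ j, c j • res F hV (f j))).comp ψ.bijective
  have key : (fun c : Fin (a * b) → Γ(X, V) => ∑ t, c t • res (CohB1.tensorMod E F) hV (prodFam e f t)) =
      (fun m : Fin a → Γ(F, V) => ∑ i, tm (res E hV (e i)) (m i)) ∘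
        fun c i => ∑ j, c (finProdFinEquiv (i, j)) • res F hV (f j) := by
    funext c
    rw [Function.comp_apply, ← Equiv.sum_comp finProdFinEquiv, Fintype.sum_prod_type]
    refine Finset.sum_congr rfl fun i _ => ?_
    rw [tm_sum]
    exact Finset.sum_congr rfl fun j _ => by simp only [prodFam, Equiv.symm_apply_apply, TMul.res_tm]
  rw [key]
  exact h1.comp h2

/-- The chart of a tensor product. -/
def prodChart (c : Chart a E DE) (d : Chart b F DF) :
    Chart (a * b) (CohB1.tensorMod E F)
      (CohB1.tensorMod (CohB1.tensorPow DE b) (CohB1.tensorPow DF a)) where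
  U := c.U ⊓ d.U
  e := prodFam (fun i => res E inf_le_left (c.e i)) (fun j => res F inf_le_right (d.e j))
  l := tm (TMul.pw (res DE inf_le_left c.l) b) (TMul.pw (res DF inf_le_right d.l) a)
  frame := isFrame_prodFam (W7Strat.isFrame_res c.frame _) (W7Strat.isFrame_res d.frame _)
  gen := TMul.isGen_tm (TMul.isGen_pw (c.gen.res _) b) (TMul.isGen_pw (d.gen.res _) a)

/-- The determinant of a tensor product. -/
theorem hasDet_tensor (h : HasDet a E DE) (h' : HasDet b F DF) :
    HasDet (a * b) (CohB1.tensorMod E F)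
      (CohB1.tensorMod (CohB1.tensorPow DE b) (CohB1.tensorPow DF a)) := by
  obtain ⟨ι, C, hcov, hcomp⟩ := h
  obtain ⟨ι', C', hcov', hcomp'⟩ := h'
  let P : ι × ι' → Chart (a * b) (CohB1.tensorMod E F)
      (CohB1.tensorMod (CohB1.tensorPow DE b) (CohB1.tensorPow DF a)) := fun p => prodChart (C p.1) (C' p.2)
  refine ⟨ι × ι', P, fun x => let ⟨i, hi⟩ := hcov x; let ⟨j, hj⟩ := hcov' x; ⟨(i, j), hi, hj⟩,
    fun p q x hc hd M hM => ?_⟩
  let W : X.Opens := (P p).U ⊓ (P q).U
  have hWp : W ≤ (P p).U := inf_le_left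
  have hWq : W ≤ (P q).U := inf_le_right
  obtain ⟨m, hm, -⟩ := exists_change (C p.1) (C q.1) (hWp.trans inf_le_left) (hWq.trans inf_le_left)
  obtain ⟨m', hm', -⟩ := exists_change (C' p.2) (C' q.2) (hWp.trans inf_le_right) (hWq.trans inf_le_right)
  let K : Matrix (Fin (a * b)) (Fin (a * b)) Γ(X, W) :=
    Matrix.reindex finProdFinEquiv finProdFinEquiv (m ⊗ₖ m')
  have he : ∀ t, res (CohB1.tensorMod E F) hWq ((P q).e t) =
      ∑ s, K t s • res (CohB1.tensorMod E F) hWp ((P p).e s) := fun t => by
    simp only [P, prodChart, prodFam, TMul.res_tm, res_res]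
    rw [hm, hm', tm_sum_sum, ← Equiv.sum_comp finProdFinEquiv, Fintype.sum_prod_type]
    refine Finset.sum_congr rfl fun i _ => Finset.sum_congr rfl fun j _ => ?_
    simp [K, Matrix.kroneckerMap_apply]
  have hl : res _ hWq (P q).l = K.det • res _ hWp (P p).l := by
    simp only [P, prodChart, TMul.res_tm, res_res, TMul.res_pw]
    rw [(hcomp p.1 q.1).sec (hWp.trans inf_le_left) (hWq.trans inf_le_left) m hm,
      (hcomp' p.2 q.2).sec (hWp.trans inf_le_right) (hWq.trans inf_le_right) m' hm',
      TMul.pw_smul, TMul.pw_smul, TMul.tm_smul, TMul.smul_tm, smul_smul]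
    congr 1
    simp only [K, Matrix.det_reindex_self, Matrix.det_kronecker, Fintype.card_fin]
    exact mul_comm _ _
  have hxW : x ∈ W := ⟨hc, hd⟩
  have hMe : M = Matrix.of fun i j => (X.presheaf.germ W x hxW).hom (K i j) := by
    funext i
    refine ((P p).frame x hc).1 ((hM i).symm.trans ?_)
    have h1 := congrArg (mgerm _ hxW) (he i)
    rw [mgerm_res, TMul.germ_comb hWp hxW] at h1
    exact h1
  have h2 := congrArg (mgerm _ hxW) hl
  rw [mgerm_smul, mgerm_res, mgerm_res, germ_det, ← hMe] at h2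
  exact h2

end Groth.Agent.DetTensor
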